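/-
The principal block of a `p`-solvable group.

* `mem_principal_iff` : the members are the characters trivial on `O_{p'}(G)`
* `inf_sylow_le_commutator` : kernels of the characters of degree prime to `p`
* `isPGroup_of_inf_le`, `eq_bot_of_normal_over_frattini` : group-theoretic consequences
-/
import Cfsg.Agent.S0915
import Cfsg.Agent.Lib.BlocksNormal.Cover
import Cfsg.Agent.Lib.BlocksNormal.Deflate
import Cfsg.Agent.Lib.CentralChar.Twist
import Cfsg.Agent.Lib.CentralChar.Fixed
import Cfsg.Agent.Lib.Blocks.Simple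
import Cfsg.Agent.Lib.Blocks.Defect
import Cfsg.Agent.Lib.Cores.Frattini
import Cfsg.Agent.Lib.PGroup.Basic
import Cfsg.Agent.Lib.Transfer.Criteria
import Cfsg.Agent.Lib.Transfer.Residual
import Cfsg.Agent.Lib.Solvable.SchurZassenhaus
import Cfsg.Agent.Lib.BSW.Local

set_option autoImplicit false
set_option linter.style.haveILetI false

namespace Cfsg.Agent.PSolvableBlock

open Cfsg
open scoped Pointwise

variable {G : Type*} [Group G] [Finite G] {p : ℕ} [hp : Fact p.Prime] {M : Ideal AlgInt}

theorem isPSolvable_quotient (h : IsPSolvable p G) (N : Subgroup G) [N.Normal] :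
    Solvable.IsPiSeparable {p} (G ⧸ N) :=
  (Solvable.isPiSeparable_of_isPSolvable h).quotient N

theorem mem_principal_iff_of_separable (hM : IsPModular p M) (hsep : Solvable.IsPiSeparable {p} G)
    (χ : IrrCharacter G) :
    χ ∈ principalBlock M G ↔ ∀ a ∈ pPrimeCore p G, (χ : G → ℂ) a = (χ : G → ℂ) 1 := by
  classical
  haveI := Fintype.ofFinite G
  haveI := Fintype.ofFinite (pPrimeCore p G)
  let one : IrrCharacter G := ⟨1, Char.isIrrCharacter_one⟩
  constructor
  · intro hχ
    exact BlocksNormal.trivOn_of_sameBlock (χ := one) (ψ := χ) _ hM Cores.not_dvd_card_pPrimeCore hχ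
      (fun n _ => rfl)
  · intro ht
    obtain ⟨ψ, hψ⟩ := CentralChar.exists_deflation _ χ ht
    haveI := Fintype.ofFinite (G ⧸ pPrimeCore p G)
    let one' : IrrCharacter (G ⧸ pPrimeCore p G) := ⟨1, Char.isIrrCharacter_one⟩
    have hcore := Cores.pPrimeCore_quotient_self (G := G) p
    have hC := Solvable.centralizer_pCore_le (hsep.quotient (pPrimeCore p G)) hcore
    have hsame : SameBlock M (one' : G ⧸ pPrimeCore p G → ℂ) (ψ : G ⧸ pPrimeCore p G → ℂ) := by
      intro g
      by_cases hg : g ∈ Subgroup.centralizer (pCore p (G ⧸ pPrimeCore p G) : Set (G ⧸ pPrimeCore p G))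
      · exact Blocks.memI_sub_trans hM
          (Blocks.centralChar_congr_of_mem hM (Cores.isPGroup_pCore p _) (hC hg) one')
          (Blocks.memI_sub_comm (Blocks.centralChar_congr_of_mem hM (Cores.isPGroup_pCore p _) (hC hg) ψ))
      · have h : ∀ x, IsConj g x →
            x ∉ Subgroup.centralizer (pCore p (G ⧸ pPrimeCore p G) : Set (G ⧸ pPrimeCore p G)) := by
          intro x hx hxC
          obtain ⟨n, rfl⟩ := isConj_iff.mp hx
          exact hg ((Blocks.conj_mem_centralizer_iff (by simp [Subgroup.normalizer_eq_top]) g).mp hxC)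
        exact Blocks.memI_sub hM
          (Blocks.memI_centralChar_of_forall_notMem hM (Cores.isPGroup_pCore p _) h one')
          (Blocks.memI_centralChar_of_forall_notMem hM (Cores.isPGroup_pCore p _) h ψ)
    have h1 := BlocksNormal.sameBlock_comp hM (QuotientGroup.mk'_surjective (pPrimeCore p G)) hsame
    show SameBlock M (fun _ : G => (1 : ℂ)) (χ : G → ℂ)
    rw [show (χ : G → ℂ) = fun g => (ψ : G ⧸ pPrimeCore p G → ℂ) (QuotientGroup.mk' _ g) from funext hψ]
    exact h1

theorem mem_principal_iff (hM : IsPModular p M) (hsolv : IsPSolvable p G) (χ : IrrCharacter G) :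
    χ ∈ principalBlock M G ↔ ∀ a ∈ pPrimeCore p G, (χ : G → ℂ) a = (χ : G → ℂ) 1 :=
  mem_principal_iff_of_separable hM (Solvable.isPiSeparable_of_isPSolvable hsolv) χ

/-- A normal subgroup killed by all characters of degree prime to `p` meets a Sylow subgroup in its
derived group. -/
theorem inf_sylow_le_commutator (R : Subgroup G)
    (h : ∀ χ : IrrCharacter G, ¬ p ∣ charDegree (χ : G → ℂ) →
      ∀ r ∈ R, (χ : G → ℂ) r = (χ : G → ℂ) 1) (P : Sylow p G) :
    R ⊓ (P : Subgroup G) ≤ ⁅(P : Subgroup G), (P : Subgroup G)⁆ := fun x hx =>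
  CentralChar.mem_commutator_of_ker _ P.not_dvd_index hx.2 fun χ hχ => h χ hχ x hx.1

theorem commutator_le_map_frattini (P : Subgroup G) (hP : IsPGroup p P) :
    ⁅P, P⁆ ≤ (frattini P).map P.subtype := by
  rw [← Subgroup.map_subtype_commutator]
  exact Subgroup.map_mono (PGroup.commutator_le_frattini hP)

/-- Such a subgroup is a `p`-group inside `Φ(G)` when `O_{p'}(G) = 1`. -/
theorem isPGroup_of_inf_le (hO : pPrimeCore p G = ⊥) (R : Subgroup G) [hR : R.Normal] (P : Sylow p G)
    (h : R ⊓ (P : Subgroup G) ≤ ⁅(P : Subgroup G), (P : Subgroup G)⁆) :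
    IsPGroup p R ∧ R ≤ frattini G := by
  have h' := h.trans (commutator_le_map_frattini _ P.2)
  have hc := Transfer.hasNormalPComplement_iff_coprime.mp
    (Transfer.frattini_hasNormalPComplement P R h')
  obtain ⟨k, hk⟩ := Transfer.exists_index_pResidual (G := R) (p := p)
  haveI : (pResidual p R).Characteristic := Transfer.pResidual_characteristic
  have hbot : (pResidual p R).map R.subtype = ⊥ := le_bot_iff.mp (hO ▸ Cores.le_pPrimeCore
    (Cores.map_subtype_normal_of_characteristic R _)
    (by rw [Subgroup.card_map_of_injective R.subtype_injective]; exact hc))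
  rw [Subgroup.map_eq_bot_iff_of_injective _ R.subtype_injective] at hbot
  rw [hbot, Subgroup.index_bot] at hk
  have hRp : IsPGroup p R := IsPGroup.of_card hk
  refine ⟨hRp, Cores.le_frattini_of_le_frattini_subgroup (P : Subgroup G) R ?_⟩
  obtain ⟨Q, hQ⟩ := hRp.exists_le_sylow
  obtain ⟨g, hg⟩ := MulAction.exists_smul_eq G Q P
  have hRP : R ≤ (P : Subgroup G) := by
    intro x hx
    rw [← hg, Sylow.coe_subgroup_smul, Subgroup.mem_pointwise_smul_iff_inv_smul_mem, ← map_inv,
      MulAut.smul_def, MulAut.conj_apply, inv_inv]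
    exact hQ (by simpa using hR.conj_mem x hx g⁻¹)
  rwa [inf_eq_left.mpr hRP] at h'

/-- No normal subgroup is a nontrivial `p'`-extension of a `p`-group inside `Φ(G)`. -/
theorem le_of_coprime_relIndex (hO : pPrimeCore p G = ⊥) {R U : Subgroup G} [R.Normal] [hU : U.Normal]
    (hR : IsPGroup p R) (hRΦ : R ≤ frattini G) (hRU : R ≤ U)
    (hc : Nat.Coprime (R.relIndex U) p) : U ≤ R := by
  obtain ⟨k, hk⟩ := IsPGroup.iff_card.mp hR
  have hcard : Nat.card U = Nat.card R * R.relIndex U := by
    rw [← Nat.card_congr (Subgroup.subgroupOfEquivOfLe hRU).toEquiv]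
    exact ((R.subgroupOf U).card_mul_index).symm
  have hcop : Nat.Coprime (Nat.card R) (R.relIndex U) := hk ▸ hc.symm.pow_left k
  obtain ⟨D, hDU, hD⟩ := BSW.exists_complement hRU
    (by simp [Subgroup.normalizer_eq_top]) hcard hcop
  have hsup : ∀ E : Subgroup G, E ≤ U → Nat.card E = R.relIndex U → E ⊔ R = U := fun E hE hEc => by
    refine Subgroup.eq_of_le_of_card_ge (sup_le hE hRU) ?_
    rw [hcard]
    exact Nat.le_of_dvd Nat.card_pos (hcop.mul_dvd_of_dvd_of_dvd
      (Subgroup.card_dvd_of_le le_sup_right) (hEc ▸ Subgroup.card_dvd_of_le le_sup_left))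
  haveI : Group.IsSolvable R := by
    haveI := hR.isNilpotent
    infer_instance
  have htop : Subgroup.normalizer (D : Set G) ⊔ R = ⊤ := by
    rw [eq_top_iff]
    intro g _
    have hgU : MulAut.conj g • D ≤ U := by
      intro x hx
      rw [Subgroup.mem_pointwise_smul_iff_inv_smul_mem, ← map_inv, MulAut.smul_def,
        MulAut.conj_apply, inv_inv] at hx
      simpa [mul_assoc] using hU.conj_mem _ (hDU hx) g
    have hgc : Nat.card (MulAut.conj g • D : Subgroup G) = R.relIndex U := by
      rw [← hD]; exact Nat.card_congr (Subgroup.equivSMul (MulAut.conj g) D).toEquiv.symm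
    obtain ⟨n, hn, hnD⟩ := Solvable.exists_conj_of_sup_eq (N := R) (Or.inl inferInstance)
      ((hsup D hDU hD).trans (hsup _ hgU hgc).symm)
      (hD ▸ hcop.symm) (hgc ▸ hcop.symm)
    have hmem : n⁻¹ * g ∈ Subgroup.normalizer (D : Set G) := by
      have h1 : MulAut.conj (n⁻¹ * g) • D = D := by
        rw [map_mul, mul_smul, ← hnD, map_inv, inv_smul_smul]
      rw [Subgroup.mem_normalizer_iff]
      intro x
      have h2 : (MulAut.conj (n⁻¹ * g)) x ∈ MulAut.conj (n⁻¹ * g) • D ↔ x ∈ D :=
        Subgroup.smul_mem_pointwise_smul_iff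
      rw [h1] at h2
      simpa [mul_assoc] using h2.symm
    have : g = n * (n⁻¹ * g) := (mul_inv_cancel_left n g).symm
    rw [this]
    exact Subgroup.mul_mem _ (Subgroup.mem_sup_right hn) (Subgroup.mem_sup_left hmem)
  have hN : Subgroup.normalizer (D : Set G) = ⊤ := frattini_nongenerating
    (le_antisymm le_top (htop ▸ sup_le_sup_left hRΦ _))
  have hD1 : D = ⊥ := le_bot_iff.mp (hO ▸ Cores.le_pPrimeCore
    (Subgroup.normalizer_eq_top_iff.mp hN) (hD ▸ hc))
  rw [hD1, Subgroup.card_bot] at hD
  exact Subgroup.relIndex_eq_one.mp hD.symm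

end Cfsg.Agent.PSolvableBlock
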