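/-
A `p`-group acting on a `q`-separable `p'`-group `K` centralizing a Sylow `q`-subgroup.

* `exists_fixed_conj_le` : invariant subgroups of index prime to `q` contain a fixed conjugate
* `fixed_le_normalizer` : if all fixed characters have degree prime to `q`, the fixed group
  normalizes the Sylow subgroup
-/
import Cfsg.Agent.Lib.GlauberChar.Solvable
import Cfsg.Agent.Lib.RelGlauber.Action
import Cfsg.Agent.Lib.Blocks.Defect
import Cfsg.Agent.Lib.Cores.Basic
import Cfsg.Agent.Lib.Cores.Frattini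
import Cfsg.Agent.Lib.Solvable.SchurZassenhaus
import Cfsg.Agent.Lib.Solvable.Fitting
import Cfsg.Agent.Lib.Coprime.Basic
import Cfsg.Agent.Lib.ClassIndex.PxQ
import Cfsg.Agent.Lib.PReduced.Basic

set_option autoImplicit false
set_option linter.style.haveILetI false

namespace Cfsg.Agent.PSolvableBlock

open Cfsg Cfsg.Agent.Char
open Cfsg.Agent.GlauberChar (IsFixed restrictAct fixedSub)
open Cfsg.Agent.RelGlauber (act_inv_act act_act_inv quotAct isFixed_indFun classInner_comp_fixed)
open scoped Pointwise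

universe u

variable {p q : ℕ} [hp : Fact p.Prime] [hq : Fact q.Prime] {P : Type*} [Group P] [Finite P]

theorem act_mem_iff {G : Type*} [Group G] (φ : P →* MulAut G) {H : Subgroup G}
    (hH : ∀ (s : P), ∀ h ∈ H, φ s h ∈ H) (s : P) (x : G) : φ s x ∈ H ↔ x ∈ H :=
  ⟨fun h => by simpa [act_inv_act] using hH s⁻¹ _ h, hH s x⟩

omit [Finite P] in
theorem stable_of_characteristic {G : Type*} [Group G] (φ : P →* MulAut G) (H : Subgroup G)
    [hH : H.Characteristic] (s : P) (h : G) (hh : h ∈ H) : φ s h ∈ H := by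
  rw [← Subgroup.characteristic_iff_map_eq.mp hH (φ s)]
  exact ⟨h, hh, rfl⟩

/-- A stable subgroup of index prime to `q` contains a conjugate of the fixed Sylow subgroup by a
fixed element. -/
theorem exists_fixed_conj_le {K : Type*} [Group K] [Finite K] (φ : P →* MulAut K) (hP : IsPGroup p P)
    (hK : ¬ p ∣ Nat.card K) (Q : Sylow q K) (hQ : (Q : Subgroup K) ≤ fixedSub φ) (T : Subgroup K)
    (hT : ∀ (s : P), ∀ t ∈ T, φ s t ∈ T) (hidx : ¬ q ∣ T.index) :
    ∃ c ∈ fixedSub φ, ∀ x ∈ (Q : Subgroup K), c * x * c⁻¹ ∈ T := by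
  classical
  letI : MulDistribMulAction P T := MulDistribMulAction.compHom T (restrictAct φ T hT)
  have hcard : ¬ p ∣ Nat.card (Sylow q T) := fun h =>
    hK (h.trans ((Sylow.card_dvd_index default).trans
      ((Subgroup.index_dvd_card _).trans (Subgroup.card_subgroup_dvd_card T))))
  obtain ⟨S, hS⟩ := hP.nonempty_fixed_point_of_prime_not_dvd_card (Sylow q T) hcard
  set Q2 := (S : Subgroup T).map T.subtype with hQ2
  have hQ2T : Q2 ≤ T := Subgroup.map_subtype_le _
  have hQ2s : ∀ (s : P), ∀ x ∈ Q2, φ s x ∈ Q2 := by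
    rintro s x ⟨y, hy, rfl⟩
    refine ⟨restrictAct φ T hT s y, ?_, rfl⟩
    have h1 : s • y ∈ ((s • S : Sylow q T) : Subgroup T) := Subgroup.smul_mem_pointwise_smul y s _ hy
    rw [hS s] at h1
    exact h1
  have hQ2i : ¬ q ∣ Q2.index := by
    rw [hQ2, Subgroup.index_map_subtype]
    exact fun h => (hq.out.dvd_mul.mp h).elim S.not_dvd_index hidx
  obtain ⟨k, -, hk⟩ := Solvable.exists_conj_of_pGroup (T := ⊤) Q.2 (S.2.map T.subtype) le_top le_top
    (by rw [Subgroup.relIndex_top_right]; exact Q.not_dvd_index)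
    (by rw [Subgroup.relIndex_top_right]; exact hQ2i)
  let X := {g : K // ∀ x, g * x * g⁻¹ ∈ Q2 ↔ x ∈ (Q : Subgroup K)}
  have hk' : ∀ x, k * x * k⁻¹ ∈ Q2 ↔ x ∈ (Q : Subgroup K) := fun x => by
    rw [show Q2 = MulAut.conj k • (Q : Subgroup K) from hk.symm, Coprime.mem_conj]
    simp [mul_assoc]
  let e : Subgroup.normalizer ((Q : Subgroup K) : Set K) ≃ X :=
    { toFun := fun n => ⟨k * n, fun x => by
        rw [show k * (n : K) * x * (k * (n : K))⁻¹ = k * ((n : K) * x * (n : K)⁻¹) * k⁻¹ by group, hk']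
        exact (Subgroup.mem_normalizer_iff.mp n.2 x).symm⟩
      invFun := fun g => ⟨k⁻¹ * g.1, Subgroup.mem_normalizer_iff.mpr fun x => by
        have h := hk' (k⁻¹ * g.1 * x * (k⁻¹ * g.1)⁻¹)
        rw [show k * (k⁻¹ * g.1 * x * (k⁻¹ * g.1)⁻¹) * k⁻¹ = g.1 * x * g.1⁻¹ by group, g.2] at h
        exact h⟩
      left_inv := fun n => Subtype.ext (inv_mul_cancel_left k _)
      right_inv := fun g => Subtype.ext (mul_inv_cancel_left k _) }
  have hQfix : ∀ (s : P) (x : K), φ s x ∈ (Q : Subgroup K) ↔ x ∈ (Q : Subgroup K) :=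
    act_mem_iff φ fun s x hx => by rw [hQ hx s]; exact hx
  have hstab : ∀ (s : P) (g : X), ∀ x, φ s g.1 * x * (φ s g.1)⁻¹ ∈ Q2 ↔ x ∈ (Q : Subgroup K) := by
    intro s g x
    obtain ⟨y, rfl⟩ := (φ s).surjective x
    rw [hQfix, ← map_inv, ← map_mul, ← map_mul, act_mem_iff φ hQ2s]
    exact g.2 y
  letI : MulAction P X :=
    { smul := fun s g => ⟨φ s g.1, hstab s g⟩
      one_smul := fun g => Subtype.ext (by show φ 1 g.1 = g.1; rw [map_one]; rfl)
      mul_smul := fun s t g => Subtype.ext (by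
        show φ (s * t) g.1 = φ s (φ t g.1); rw [map_mul]; rfl) }
  obtain ⟨c, hc⟩ := hP.nonempty_fixed_point_of_prime_not_dvd_card X (by
    rw [← Nat.card_congr e]
    exact fun h => hK (h.trans (Subgroup.card_subgroup_dvd_card _)))
  exact ⟨c.1, fun s => congrArg Subtype.val (hc s), fun x hx => hQ2T ((c.2 x).mpr hx)⟩

/-- Inertia groups of fixed characters are stable. -/
theorem inertia_stable {G : Type*} [Group G] (φ : P →* MulAut G) (N : Subgroup G) [N.Normal]
    (hN : ∀ (s : P), ∀ n ∈ N, φ s n ∈ N) {θ : N → ℂ} (hθ : IsFixed (restrictAct φ N hN) θ)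
    (s : P) (t : G) (ht : t ∈ CharApp.inertia N θ) : φ s t ∈ CharApp.inertia N θ := by
  rw [CharApp.mem_inertia_iff] at ht ⊢
  intro n
  obtain ⟨m, rfl⟩ : ∃ m, restrictAct φ N hN s m = n := (restrictAct φ N hN s).surjective n
  rw [hθ s m, ← ht m]
  refine Eq.trans (congrArg θ (Subtype.ext ?_)) (hθ s _)
  show φ s t * φ s m * (φ s t)⁻¹ = φ s (t * m * t⁻¹)
  simp

/-- An automorphism group of coprime order fixing every irreducible character is trivial. -/
theorem trivial_of_fixes_irr {C : Type*} [Group C] [Finite C] {U : Type*} [Group U] [Finite U]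
    (hU : IsPGroup q U) (hC : ¬ q ∣ Nat.card C) (τ : U →* MulAut C)
    (h : ∀ β : IrrCharacter C, IsFixed τ (β : C → ℂ)) (u : U) (c : C) : τ u c = c := by
  classical
  haveI := Fintype.ofFinite C
  haveI := Fintype.ofFinite (IrrCharacter C)
  have hclass : ∀ (v : U) (x : C), IsConj x (τ v x) := by
    intro v x
    let f : C → ℂ := fun y => if IsConj x y then 1 else 0
    have hf : IsClassFunction C f := fun a b =>
      if_congr ⟨fun hh => hh.trans (isConj_iff.mpr ⟨b, rfl⟩).symm,
        fun hh => hh.trans (isConj_iff.mpr ⟨b, rfl⟩)⟩ rfl rfl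
    have he : f (τ v x) = f x := by
      have hd := classFunction_eq_sum hf
      rw [hd]
      simp only [Finset.sum_apply, Pi.smul_apply, smul_eq_mul]
      exact Finset.sum_congr rfl fun β _ => by rw [h β v x]
    by_contra hne
    simp only [f] at he
    rw [if_neg hne, if_pos (IsConj.refl x)] at he
    exact zero_ne_one he
  have htop : fixedSub τ = ⊤ := ClassIndex.eq_top_of_conj_cover fun x => by
    obtain ⟨c', hc', hcx⟩ := GlauberChar.exists_fixed_in_class τ hU hC (fun v => hclass v x)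
    obtain ⟨g, hg⟩ := isConj_iff.mp hcx
    exact ⟨g⁻¹, by rw [inv_inv, hg]; exact hc'⟩
  exact (htop ▸ Subgroup.mem_top c : c ∈ fixedSub τ) u

/-- An action commuting with `φ` and fixing every fixed character fixes every character of the fixed
group. -/
theorem isFixed_of_glauberman {M : Type*} [Group M] [Fintype M] (φM : P →* MulAut M) (hP : IsPGroup p P)
    (hM : ¬ p ∣ Nat.card M) [Fintype (fixedSub φM)] {U : Type*} [Group U] (ψ : U →* MulAut M)
    (hψ : ∀ (v : U), ∀ y ∈ fixedSub φM, ψ v y ∈ fixedSub φM)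
    (h : ∀ γ : IrrCharacter M, IsFixed φM (γ : M → ℂ) → IsFixed ψ (γ : M → ℂ))
    (β : IrrCharacter (fixedSub φM)) : IsFixed (restrictAct ψ (fixedSub φM) hψ) (β : fixedSub φM → ℂ) := by
  classical
  intro v y
  obtain ⟨⟨γ, hγ⟩, hγβ⟩ := (GlauberChar.toFixedIrr_bijective φM hP hM).2 β
  have hnd : ¬ p ∣ GlauberChar.mult φM (γ : M → ℂ) (β : fixedSub φM → ℂ) := by
    rw [← hγβ]
    exact (GlauberChar.exists_irr_of_fixed φM hM γ).choose_spec
  set τ : fixedSub φM ≃* fixedSub φM := restrictAct ψ (fixedSub φM) hψ v with hτdef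
  let β' : IrrCharacter (fixedSub φM) :=
    ⟨fun z => (β : fixedSub φM → ℂ) (τ z), IsIrrCharacter.comp_equiv β.2 τ⟩
  have hfun : (fun z : fixedSub φM => (γ : M → ℂ) ((τ z : fixedSub φM) : M)) =
      fun z : fixedSub φM => (γ : M → ℂ) z := funext fun z => h γ hγ v z
  have hmult : GlauberChar.mult φM (γ : M → ℂ) (β' : fixedSub φM → ℂ) =
      GlauberChar.mult φM (γ : M → ℂ) (β : fixedSub φM → ℂ) := by
    refine GlauberChar.mult_eq_of_classInner φM ?_
    rw [← GlauberChar.mult_spec φM (IsIrrCharacter.isCharacter γ.2) (IsIrrCharacter.isCharacter β.2),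
      ← classInner_comp_equiv τ (fun z : fixedSub φM => (γ : M → ℂ) z) (β : fixedSub φM → ℂ), hfun]
  have h2 := GlauberChar.irr_unique φM hP hM hγ (β := β') (β' := β) (hmult ▸ hnd) hnd
  exact congrFun (congrArg Subtype.val h2) y

/-- The fixed group normalizes a fixed Sylow `q`-subgroup when all fixed characters have degree prime
to `q`. -/
theorem fixed_le_normalizer_aux (n : ℕ) : ∀ (K : Type u) [Group K] [Finite K], Nat.card K ≤ n →
    ∀ φ : P →* MulAut K, IsPGroup p P → ¬ p ∣ Nat.card K → Solvable.IsPiSeparable {q} K →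
    ∀ Q : Sylow q K, (Q : Subgroup K) ≤ fixedSub φ →
    (∀ θ : IrrCharacter K, IsFixed φ (θ : K → ℂ) → ¬ q ∣ charDegree (θ : K → ℂ)) →
    ∀ c ∈ fixedSub φ, ∀ x ∈ (Q : Subgroup K), c * x * c⁻¹ ∈ (Q : Subgroup K) := by
  induction n with
  | zero => intro K _ _ hn; exact absurd hn (Nat.card_pos (α := K)).not_ge
  | succ n ih =>
  intro K _ _ hn φ hP hK hsep Q hQ hdeg c hc x hx
  classical
  rcases subsingleton_or_nontrivial K with hs | hnt
  · rw [Subsingleton.elim (c * x * c⁻¹) x]; exact hx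
  haveI := Fintype.ofFinite K
  obtain ⟨M, hMc, hM0, hMn⟩ : ∃ M : Subgroup K, M.Characteristic ∧ M ≠ ⊥ ∧
      (IsPGroup q M ∨ ¬ q ∣ Nat.card M) := by
    obtain ⟨N, hN, hN0, hNn⟩ := hsep.exists_normal_ne_bot
    rcases hNn with h | h
    · have hNq : IsPGroup q N := by
        refine IsPGroup.of_card (n := (Nat.card N).primeFactorsList.length) ?_
        refine Nat.eq_prime_pow_of_unique_prime_dvd (Nat.card_pos (α := N)).ne' ?_
        intro r hr hd
        exact Set.mem_singleton_iff.mp (h r hr hd)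
      exact ⟨pCore q K, inferInstance, fun he => hN0 (le_bot_iff.mp (he ▸ PReduced.le_pCore hN hNq)),
        Or.inl (PReduced.isPGroup_pCore q)⟩
    · refine ⟨pPrimeCore q K, inferInstance, fun he => hN0 (le_bot_iff.mp (he ▸
        Cores.le_pPrimeCore hN ?_)), Or.inr (Cores.not_dvd_card_pPrimeCore (G := K) (p := q))⟩
      rw [Nat.coprime_comm, hq.out.coprime_iff_not_dvd]
      exact fun hd => h q hq.out hd rfl
  haveI : M.Normal := inferInstance
  have hMs : ∀ (s : P), ∀ m ∈ M, φ s m ∈ M := stable_of_characteristic φ M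
  -- the quotient
  have hquot : ∀ d ∈ fixedSub φ, ∀ y ∈ (Q : Subgroup K), d * y * d⁻¹ ∈ (Q : Subgroup K) ⊔ M := by
    intro d hd y hy
    have hsurj := QuotientGroup.mk'_surjective M
    have hlt : Nat.card (K ⧸ M) < Nat.card K := by
      rw [← Subgroup.index_eq_card, ← M.card_mul_index]
      exact lt_mul_of_one_lt_left (Nat.pos_of_ne_zero Subgroup.index_ne_zero_of_finite)
        (M.one_lt_card_iff_ne_bot.mpr hM0)
    let φ' := quotAct φ M hMs
    have hQ' : ((Q.mapSurjective hsurj : Sylow q (K ⧸ M)) : Subgroup (K ⧸ M)) ≤ fixedSub φ' := by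
      rintro _ ⟨z, hz, rfl⟩ s
      show ((φ s z : K) : K ⧸ M) = (z : K ⧸ M)
      rw [hQ hz s]
    have h1 := ih (K ⧸ M) (by omega) φ' hP
      (fun h => hK (h.trans (Subgroup.card_quotient_dvd_card M))) (hsep.quotient M)
      (Q.mapSurjective hsurj) hQ' (fun θ hθ => by
        have h2 := hdeg ⟨fun g => (θ : K ⧸ M → ℂ) (g : K ⧸ M),
          IsIrrCharacter.comp_surjective θ.2 (QuotientGroup.mk' M) hsurj⟩
          (fun s g => hθ s (g : K ⧸ M))
        simpa [charDegree] using h2)
      (d : K ⧸ M) (fun s => by show ((φ s d : K) : K ⧸ M) = (d : K ⧸ M); rw [hd s])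
      (y : K ⧸ M) ⟨y, hy, rfl⟩
    have h3 : d * y * d⁻¹ ∈ ((Q : Subgroup K).map (QuotientGroup.mk' M)).comap (QuotientGroup.mk' M) :=
      h1
    rwa [Subgroup.comap_map_eq, QuotientGroup.ker_mk'] at h3
  rcases hMn with hMq | hMq
  · have hMQ : M ≤ (Q : Subgroup K) := by
      obtain ⟨S, hS⟩ := hMq.exists_le_sylow
      obtain ⟨g, hg⟩ := MulAction.exists_smul_eq K S Q
      intro m hm
      rw [← hg, Sylow.coe_subgroup_smul, Coprime.mem_conj]
      exact hS (by simpa using (inferInstance : M.Normal).conj_mem m hm g⁻¹)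
    have := hquot c hc x hx
    rwa [sup_eq_left.mpr hMQ] at this
  -- `M` of order prime to `q`
  haveI := Fintype.ofFinite M
  haveI := Fintype.ofFinite (IrrCharacter K)
  let φM := restrictAct φ M hMs
  haveI := Fintype.ofFinite (fixedSub φM)
  have hM : ¬ p ∣ Nat.card M := fun h => hK (h.trans (Subgroup.card_subgroup_dvd_card M))
  -- fixed characters of `M` are invariant under `Q`
  have hinv : ∀ γ : IrrCharacter M, IsFixed φM (γ : M → ℂ) → ∀ u ∈ (Q : Subgroup K),
      u ∈ CharApp.inertia M (γ : M → ℂ) := by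
    intro γ hγ u hu
    have hind := isFixed_indFun φ M hMs hγ
    obtain ⟨m, hm, hmn⟩ := IsCharacter.decompose
      (IsCharacter.indFun M (IsIrrCharacter.isCharacter γ.2))
    choose e he0 he using fun θ : IrrCharacter K => IsIrrCharacter.exists_degree θ.2
    obtain ⟨g1, hg10, hg1⟩ := IsIrrCharacter.exists_degree γ.2
    have hsum : M.index * g1 = ∑ θ, m θ * e θ := by
      have h1 := congrFun hm 1
      rw [indFun_one_apply, hg1] at h1
      simp only [Finset.sum_apply, Pi.smul_apply, smul_eq_mul, he] at h1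
      exact_mod_cast h1
    have hndvd : ¬ p ∣ M.index * g1 := fun h => (hp.out.dvd_mul.mp h).elim
      (fun h1 => hK (h1.trans M.index_dvd_card)) (fun h1 => by
        have h2 : charDegree (γ : M → ℂ) = g1 := by simp [charDegree, hg1]
        exact hM (h1.trans (h2 ▸ Blocks.charDegree_dvd_card γ)))
    letI := GlauberChar.charAction φ
    obtain ⟨θ, hθfix, hθp⟩ : ∃ θ : IrrCharacter K, IsFixed φ (θ : K → ℂ) ∧ m θ ≠ 0 := by
      by_contra hh
      push Not at hh
      have hinvw : ∀ (s : P) (θ : IrrCharacter K), m (s • θ) * e (s • θ) = m θ * e θ := by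
        intro s θ
        have hm1 : m (s • θ) = m θ := by
          have h2 := (hmn (s • θ)).symm.trans
            ((classInner_comp_fixed φ hind s⁻¹ (θ : K → ℂ)).trans (hmn θ))
          exact_mod_cast h2
        have he1 : e (s • θ) = e θ := by
          have h2 := (he (s • θ)).symm
          change (e (s • θ) : ℂ) = (θ : K → ℂ) (φ s⁻¹ 1) at h2
          rw [map_one, he θ] at h2
          exact_mod_cast h2
        rw [hm1, he1]
      have hcong := GlauberChar.cong_sum_fixed (p := p) hP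
        (fun θ : IrrCharacter K => ((m θ * e θ : ℕ) : ℂ)) (fun _ => GlauberChar.isIntegral_natCast' _)
        (fun s θ => by rw [hinvw])
      rw [← Nat.cast_sum, ← Nat.cast_sum, ← Int.cast_natCast, ← Int.cast_natCast (R := ℂ)] at hcong
      have hdvd := GlauberChar.int_dvd_of_cong hp.out.ne_zero hcong
      rw [← hsum, Finset.sum_eq_zero fun θ hθ => by
        rw [hh θ ((GlauberChar.isFixed_iff_smul φ θ).mp (Finset.mem_filter.mp hθ).2), zero_mul],
        Nat.cast_zero, sub_zero, Int.natCast_dvd_natCast] at hdvd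
      exact hndvd hdvd
    have hover : classInner (fun n : M => (θ : K → ℂ) n) (γ : M → ℂ) ≠ 0 := by
      rw [CharApp.classInner_comm_of_nat (m := m θ) (by
        rw [← frobenius_reciprocity M _ (IsIrrCharacter.isClassFunction θ.2)]; exact hmn θ)]
      exact_mod_cast hθp
    have hidx : ¬ q ∣ (CharApp.inertia M (γ : M → ℂ)).index := by
      intro hd
      refine hdeg θ hθfix ?_
      obtain ⟨a, ha⟩ := IsCharacter.classInner_nat
        (IsCharacter.restrict (IsIrrCharacter.isCharacter θ.2) M) (IsIrrCharacter.isCharacter γ.2)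
      have h1 := CharApp.restrict_degree M θ.2 γ.2 hover
      rw [ha, he θ, hg1] at h1
      have h2 : e θ = a * (CharApp.inertia M (γ : M → ℂ)).index * g1 := by exact_mod_cast h1
      have h3 : charDegree (θ : K → ℂ) = e θ := by simp [charDegree, he]
      rw [h3, h2]
      exact dvd_mul_of_dvd_left (dvd_mul_of_dvd_right hd _) _
    obtain ⟨d, hd, hdQ⟩ := exists_fixed_conj_le φ hP hK Q hQ _ (inertia_stable φ M hMs hγ) hidx
    obtain ⟨y, hy, z, hz, hyz⟩ := Subgroup.mem_sup_of_normal_right.mp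
      (by simpa using hquot d⁻¹ ((fixedSub φ).inv_mem hd) u hu :
        d⁻¹ * u * d ∈ (Q : Subgroup K) ⊔ M)
    have : u = (d * y * d⁻¹) * (d * z * d⁻¹) := by
      rw [show (d * y * d⁻¹) * (d * z * d⁻¹) = d * (y * z) * d⁻¹ by group, hyz]; group
    rw [this]
    exact Subgroup.mul_mem _ (hdQ y hy)
      (CharApp.le_inertia M (IsIrrCharacter.isClassFunction γ.2)
        ((inferInstance : M.Normal).conj_mem z hz d))
  -- `Q` centralizes the fixed points of `M`
  let ψU : (Q : Subgroup K) →* MulAut M := MulAut.conjNormal.comp (Q : Subgroup K).subtype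
  have hψU : ∀ (v : (Q : Subgroup K)), ∀ y ∈ fixedSub φM, ψU v y ∈ fixedSub φM := by
    intro v y hy s
    refine Subtype.ext ?_
    show φ s ((ψU v y : M) : K) = ((ψU v y : M) : K)
    have hys : φ s (y : K) = y := congrArg Subtype.val (hy s)
    simp only [ψU, MonoidHom.comp_apply, MulAut.conjNormal_apply, Subgroup.coe_subtype, map_mul,
      map_inv, hQ v.2 s, hys]
  have hfixall := isFixed_of_glauberman φM hP hM ψU hψU fun γ hγ v m =>
    Eq.trans (congrArg (γ : M → ℂ) (Subtype.ext (by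
      show ((MulAut.conjNormal (v : K) m : M) : K) = (v : K) * m * (v : K)⁻¹
      exact MulAut.conjNormal_apply _ _)))
      ((CharApp.mem_inertia_iff M).mp (hinv γ hγ (v : K) v.2) m)
  have hτ := trivial_of_fixes_irr (q := q) (U := (Q : Subgroup K)) (C := fixedSub φM) Q.2
    (fun h => hMq (h.trans (Subgroup.card_subgroup_dvd_card _)))
    (restrictAct ψU (fixedSub φM) hψU) hfixall
  obtain ⟨y, hy, z, hz, hyz⟩ := Subgroup.mem_sup_of_normal_right.mp (hquot c hc x hx)
  have hzfix : (⟨z, hz⟩ : M) ∈ fixedSub φM := fun s => Subtype.ext (by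
    show φ s z = z
    have e : z = y⁻¹ * (c * x * c⁻¹) := by rw [← hyz]; group
    rw [e]
    simp [hc s, hQ hx s, hQ hy s])
  have hcomm : Commute y z := by
    have h1 := congrArg (fun w : fixedSub φM => ((w : M) : K)) (hτ ⟨y, hy⟩ ⟨⟨z, hz⟩, hzfix⟩)
    change y * z * y⁻¹ = z at h1
    exact mul_inv_eq_iff_eq_mul.mp h1
  obtain ⟨a, ha⟩ := IsPGroup.iff_card.mp Q.2
  have hpow : ∀ w ∈ (Q : Subgroup K), w ^ q ^ a = 1 := fun w hw =>
    congrArg Subtype.val (show (⟨w, hw⟩ : (Q : Subgroup K)) ^ q ^ a = 1 by rw [← ha, pow_card_eq_one'])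
  have hz1 : z ^ q ^ a = 1 := by
    have h1 := congrArg (· ^ q ^ a) hyz
    simp only [hcomm.mul_pow, conj_pow, hpow y hy, hpow x hx, one_mul, mul_one, mul_inv_cancel] at h1
    exact h1
  have hz2 : z = 1 := orderOf_eq_one_iff.mp (Nat.eq_one_of_dvd_coprimes
    ((hq.out.coprime_iff_not_dvd.mpr hMq).pow_left a) (orderOf_dvd_of_pow_eq_one hz1)
    (Subgroup.orderOf_mk z hz ▸ orderOf_dvd_natCard (⟨z, hz⟩ : M)))
  rw [← hyz, hz2, mul_one]
  exact hy

theorem fixed_le_normalizer {K : Type u} [Group K] [Finite K] (φ : P →* MulAut K) (hP : IsPGroup p P)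
    (hK : ¬ p ∣ Nat.card K) (hsep : Solvable.IsPiSeparable {q} K) (Q : Sylow q K)
    (hQ : (Q : Subgroup K) ≤ fixedSub φ)
    (hdeg : ∀ θ : IrrCharacter K, IsFixed φ (θ : K → ℂ) → ¬ q ∣ charDegree (θ : K → ℂ))
    {c : K} (hc : c ∈ fixedSub φ) {x : K} (hx : x ∈ (Q : Subgroup K)) :
    c * x * c⁻¹ ∈ (Q : Subgroup K) :=
  fixed_le_normalizer_aux _ K le_rfl φ hP hK hsep Q hQ hdeg c hc x hx

end Cfsg.Agent.PSolvableBlock
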