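/-
Principal blocks for two primes in a `p`- and `q`-separable group.

* `Cross`, `cross_quotient` : characters of degree prime to `p` in the principal block have degree
  prime to `q`
* `exists_commuting` : commuting Sylow subgroups
* `cross_core` : if `Cross` holds both ways, `q ∤ |G : O_{p'}(G)|` and `p ∤ |G : O_{q'}(G)|`
-/
import Cfsg.Agent.Lib.PSolvableBlock.Basic
import Cfsg.Agent.Lib.PSolvableBlock.FixedSylow
import Cfsg.Agent.Lib.CharExtend.Coprime
import Cfsg.Agent.Lib.CharApp.CoprimeFixed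
import Cfsg.Agent.Lib.Coprime.Frattini
import Cfsg.Agent.Lib.BlocksNormal.Deflate
import Cfsg.Agent.S0887

set_option autoImplicit false
set_option linter.style.haveILetI false

namespace Cfsg.Agent.PSolvableBlock

open Cfsg Cfsg.Agent.Char
open Cfsg.Agent.GlauberChar (IsFixed restrictAct fixedSub)
open scoped Pointwise

universe u

variable {p q : ℕ} [hp : Fact p.Prime] [hq : Fact q.Prime]

/-- Characters of degree prime to `p` in the principal `p`-block have degree prime to `q`. -/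
def Cross (p q : ℕ) (M : Ideal AlgInt) (G : Type*) [Group G] : Prop :=
  ∀ χ : IrrCharacter G, χ ∈ principalBlock M G → ¬ p ∣ charDegree (χ : G → ℂ) →
    ¬ q ∣ charDegree (χ : G → ℂ)

omit hp hq in
theorem cross_quotient {G : Type*} [Group G] [Finite G] {M : Ideal AlgInt} (hM : IsPModular p M)
    (N : Subgroup G) [N.Normal] (h : Cross p q M G) : Cross p q M (G ⧸ N) := by
  intro ψ hψ hd
  haveI := Fintype.ofFinite G
  haveI := Fintype.ofFinite (G ⧸ N)
  have hs := QuotientGroup.mk'_surjective N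
  have h1 := BlocksNormal.sameBlock_comp hM hs (χ := ⟨1, isIrrCharacter_one⟩) (ψ := ψ) hψ
  let χ : IrrCharacter G := ⟨fun g => (ψ : G ⧸ N → ℂ) (QuotientGroup.mk' N g),
    IsIrrCharacter.comp_surjective ψ.2 _ hs⟩
  have he : charDegree (χ : G → ℂ) = charDegree (ψ : G ⧸ N → ℂ) := by
    show charDegree (fun g : G => (ψ : G ⧸ N → ℂ) (QuotientGroup.mk' N g)) = _
    simp only [charDegree, map_one]
  rw [← he] at hd ⊢
  exact h χ h1 hd

omit hq in
theorem sylow_le_of_index {G : Type*} [Group G] [Finite G] (P : Sylow p G) (B : Subgroup G) [B.Normal]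
    (hB : ¬ p ∣ B.index) : (P : Subgroup G) ≤ B := by
  intro x hx
  obtain ⟨j, hj⟩ := IsPGroup.iff_orderOf.mp P.2 ⟨x, hx⟩
  rw [Subgroup.orderOf_mk] at hj
  rw [← QuotientGroup.eq_one_iff, ← orderOf_eq_one_iff]
  refine Nat.eq_one_of_dvd_coprimes ((hp.out.coprime_iff_not_dvd.mpr hB).pow_left j) ?_ ?_
  · exact hj ▸ orderOf_map_dvd (QuotientGroup.mk' B) x
  · rw [Subgroup.index_eq_card]; exact orderOf_dvd_natCard _

/-- Commuting Sylow subgroups from the two cores. -/
theorem exists_commuting {G : Type*} [Group G] [Finite G] (A B : Subgroup G) [A.Normal] [B.Normal]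
    (hA : ¬ p ∣ Nat.card A) (hB : ¬ q ∣ Nat.card B) (hAi : ¬ q ∣ A.index) (hBi : ¬ p ∣ B.index)
    (P : Sylow p G) :
    ∃ Q : Sylow q G, (Q : Subgroup G) ≤ A ∧
      ∀ x ∈ (P : Subgroup G), ∀ y ∈ (Q : Subgroup G), x * y = y * x := by
  classical
  let φ : (P : Subgroup G) →* MulAut A := MulAut.conjNormal.comp (P : Subgroup G).subtype
  letI : MulDistribMulAction (P : Subgroup G) A := MulDistribMulAction.compHom A φ
  obtain ⟨S, hS⟩ := P.2.nonempty_fixed_point_of_prime_not_dvd_card (Sylow q A) (fun h =>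
    hA (h.trans ((Sylow.card_dvd_index default).trans (Subgroup.index_dvd_card _))))
  have hQi : ¬ q ∣ ((S : Subgroup A).map A.subtype).index := by
    rw [Subgroup.index_map_subtype]
    exact fun h => (hq.out.dvd_mul.mp h).elim S.not_dvd_index hAi
  refine ⟨(S.2.map A.subtype).toSylow hQi, Subgroup.map_subtype_le _, fun x hx y hy => ?_⟩
  change y ∈ (S : Subgroup A).map A.subtype at hy
  obtain ⟨z, hz, rfl⟩ := hy
  have h1 : φ ⟨x, hx⟩ z ∈ (S : Subgroup A) := by
    have h2 : (⟨x, hx⟩ : (P : Subgroup G)) • z ∈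
        (((⟨x, hx⟩ : (P : Subgroup G)) • S : Sylow q A) : Subgroup A) :=
      Subgroup.smul_mem_pointwise_smul z _ _ hz
    rw [hS ⟨x, hx⟩] at h2
    exact h2
  have hw : φ ⟨x, hx⟩ z * z⁻¹ ∈ (S : Subgroup A) :=
    (S : Subgroup A).mul_mem h1 ((S : Subgroup A).inv_mem hz)
  have hcoe : ((φ ⟨x, hx⟩ z * z⁻¹ : A) : G) = x * (z : G) * x⁻¹ * (z : G)⁻¹ := by
    simp [φ, MulAut.conjNormal_apply]
  have hwB : x * (z : G) * x⁻¹ * (z : G)⁻¹ ∈ B := by
    have hxB := sylow_le_of_index P B hBi hx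
    rw [show x * (z : G) * x⁻¹ * (z : G)⁻¹ = x * ((z : G) * x⁻¹ * (z : G)⁻¹) by group]
    exact B.mul_mem hxB ((inferInstance : B.Normal).conj_mem _ (B.inv_mem hxB) _)
  obtain ⟨a, ha⟩ := IsPGroup.iff_card.mp (S.2.map A.subtype)
  have h3 : x * (z : G) * x⁻¹ * (z : G)⁻¹ = 1 :=
    Coprime.eq_one_of_mem_of_mem (A := (S : Subgroup A).map A.subtype) (K := B)
      (ha ▸ (hq.out.coprime_iff_not_dvd.mpr hB).pow_left a) ⟨_, hw, hcoe⟩ hwB
  rw [mul_inv_eq_one, mul_inv_eq_iff_eq_mul] at h3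
  exact h3

/-- A fixed character of a normal `p'`-subgroup lies under one of degree prime to `p`. -/
theorem exists_over_fixed {G : Type*} [Group G] [Finite G] (A : Subgroup G) [A.Normal] [Fintype A]
    (hA : ¬ p ∣ Nat.card A) (P : Sylow p G) (θ : IrrCharacter A)
    (hθ : IsFixed (MulAut.conjNormal.comp (P : Subgroup G).subtype :
      (P : Subgroup G) →* MulAut A) (θ : A → ℂ)) :
    ∃ χ : IrrCharacter G, ¬ p ∣ charDegree (χ : G → ℂ) ∧
      charDegree (θ : A → ℂ) ∣ charDegree (χ : G → ℂ) := by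
  classical
  haveI := Fintype.ofFinite G
  haveI := Fintype.ofFinite (IrrCharacter G)
  set H := A ⊔ (P : Subgroup G) with hH
  haveI := Fintype.ofFinite H
  haveI := Fintype.ofFinite (A.subgroupOf H)
  have hAH : A ≤ H := le_sup_left
  have hle : H ≤ CharApp.inertia A (θ : A → ℂ) := by
    refine sup_le (CharApp.le_inertia A (IsIrrCharacter.isClassFunction θ.2)) fun x hx => ?_
    rw [CharApp.mem_inertia_iff]
    intro n
    exact Eq.trans (congrArg (θ : A → ℂ) (Subtype.ext (MulAut.conjNormal_apply x n).symm))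
      (hθ ⟨x, hx⟩ n)
  let e := Subgroup.subgroupOfEquivOfLe hAH
  have hindex : Nat.Coprime (Nat.card (A.subgroupOf H)) (A.subgroupOf H).index := by
    obtain ⟨k, hk⟩ := IsPGroup.iff_card.mp P.2
    rw [Nat.card_congr e.toEquiv]
    refine Nat.Coprime.coprime_dvd_right (k := Nat.card A) ?_
      ((hp.out.coprime_iff_not_dvd.mpr hA).pow_left k).symm
    show A.relIndex (A ⊔ (P : Subgroup G)) ∣ p ^ k
    rw [Subgroup.relIndex_sup_left, ← hk]
    exact A.relIndex_dvd_card (P : Subgroup G)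
  obtain ⟨lam, hlam, hres⟩ := CharExtend.extends_of_coprime (N := A.subgroupOf H)
    (θ := fun x => (θ : A → ℂ) (e x)) (IsIrrCharacter.comp_equiv θ.2 e)
    (fun g x => (CharApp.mem_inertia_iff A).mp (hle g.2) (e x)) hindex
  obtain ⟨m, hm, hmn⟩ := IsCharacter.decompose (IsCharacter.indFun H (IsIrrCharacter.isCharacter hlam))
  choose d hd0 hd using fun χ : IrrCharacter G => IsIrrCharacter.exists_degree χ.2
  have hθd := Blocks.charDegree_cast θ
  have hlam1 : lam 1 = (charDegree (θ : A → ℂ) : ℂ) := by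
    rw [hθd]
    exact (hres 1).trans (by rw [map_one])
  have hsum : H.index * charDegree (θ : A → ℂ) = ∑ χ, m χ * d χ := by
    have h1 := congrFun hm 1
    rw [indFun_one_apply, hlam1] at h1
    simp only [Finset.sum_apply, Pi.smul_apply, smul_eq_mul, hd] at h1
    exact_mod_cast h1
  have hndvd : ¬ p ∣ H.index * charDegree (θ : A → ℂ) := fun h => (hp.out.dvd_mul.mp h).elim
    (fun h1 => P.not_dvd_index (h1.trans (Subgroup.index_dvd_of_le le_sup_right)))
    (fun h1 => hA (h1.trans (Blocks.charDegree_dvd_card θ)))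
  obtain ⟨χ, hχ⟩ : ∃ χ, ¬ p ∣ m χ * d χ := by
    by_contra hh
    push Not at hh
    exact hndvd (hsum ▸ Finset.dvd_sum fun χ _ => hh χ)
  have hdeg : charDegree (χ : G → ℂ) = d χ := by simp [charDegree, hd]
  refine ⟨χ, hdeg ▸ fun h => hχ (dvd_mul_of_dvd_right h _), ?_⟩
  have h1 : classInner (fun x : H => (χ : G → ℂ) x) lam ≠ 0 := by
    rw [CharApp.classInner_comm_of_nat (m := m χ) (by
      rw [← frobenius_reciprocity H _ (IsIrrCharacter.isClassFunction χ.2)]; exact hmn χ)]
    exact_mod_cast fun h0 : m χ = 0 => hχ (by rw [h0, zero_mul]; exact dvd_zero p)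
  have h2 : classInner (fun x : A.subgroupOf H => lam x) (fun x => (θ : A → ℂ) (e x)) ≠ 0 := by
    rw [show (fun x : A.subgroupOf H => lam x) = fun x => (θ : A → ℂ) (e x) from funext hres,
      classInner_comp_equiv e, classInner_irr_self θ.2]
    exact one_ne_zero
  have h3 := CharApp.over_trans (A.subgroupOf H).subtype
    (IsCharacter.restrict (IsIrrCharacter.isCharacter χ.2) H) hlam (IsIrrCharacter.comp_equiv θ.2 e) h1 h2
  have h4 : classInner (fun n : A => (χ : G → ℂ) n) (θ : A → ℂ) ≠ 0 := by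
    rw [← classInner_comp_equiv e (fun n : A => (χ : G → ℂ) n) (θ : A → ℂ)]
    exact h3
  exact (S0887.result A _ χ.2 _ θ.2 h4 _ _ (Blocks.charDegree_cast χ).symm hθd.symm).1

/-- The main step. -/
theorem cross_core_half {G : Type u} [Group G] [Finite G] {M : Ideal AlgInt} (hpq : p ≠ q)
    (hM : IsPModular p M) (hsep : Solvable.IsPiSeparable {p} G)
    (hsepq : Solvable.IsPiSeparable {q} G) (hcross : Cross p q M G)
    (IH : ∀ (N : Subgroup G) [N.Normal], N ≠ ⊥ →
      ¬ q ∣ (pPrimeCore p (G ⧸ N)).index ∧ ¬ p ∣ (pPrimeCore q (G ⧸ N)).index) :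
    ¬ q ∣ (pPrimeCore p G).index := by
  classical
  by_cases hA : pPrimeCore p G = ⊥
  swap
  · have h := (IH _ hA).1
    rwa [Cores.pPrimeCore_quotient_self, Subgroup.index_bot, ← Subgroup.index_eq_card] at h
  intro hdvd
  rw [hA, Subgroup.index_bot] at hdvd
  haveI : Nontrivial G := by
    rw [← Finite.one_lt_card_iff_nontrivial]
    exact lt_of_lt_of_le hq.out.one_lt (Nat.le_of_dvd Nat.card_pos hdvd)
  have hC := Solvable.centralizer_pCore_le hsep hA
  set N := pCore p G with hNdef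
  have hN0 : N ≠ ⊥ := by
    intro h
    rw [h, le_bot_iff] at hC
    rw [show Subgroup.centralizer ((⊥ : Subgroup G) : Set G) = ⊤ from
      top_le_iff.mp fun g _ => Subgroup.mem_centralizer_iff.mpr fun x hx => by
        rw [Subgroup.mem_bot.mp hx, one_mul, mul_one]] at hC
    exact top_ne_bot hC
  have hNp : IsPGroup p N := Cores.isPGroup_pCore p G
  obtain ⟨hAi, hBi⟩ := IH N hN0
  haveI := Fintype.ofFinite G
  obtain ⟨P⟩ : Nonempty (Sylow p G) := inferInstance
  set f := QuotientGroup.mk' N with hf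
  have hfs : Function.Surjective f := QuotientGroup.mk'_surjective N
  set Pb : Sylow p (G ⧸ N) := P.mapSurjective hfs with hPb
  set A := pPrimeCore p (G ⧸ N) with hAdef
  obtain ⟨Qb, hQbA, hcomm⟩ := exists_commuting A (pPrimeCore q (G ⧸ N))
    (Cores.not_dvd_card_pPrimeCore (p := p)) (Cores.not_dvd_card_pPrimeCore (p := q)) hAi hBi Pb
  have hNP : N ≤ (P : Subgroup G) := PReduced.pCore_le_sylow P
  -- a Sylow `q`-subgroup of `G` above `Qb`
  obtain ⟨Q, hQ⟩ := Sylow.mapSurjective_surjective hfs q Qb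
  have hQcomm : ∀ u ∈ (Q : Subgroup G), ∀ x ∈ (P : Subgroup G), u * x * u⁻¹ * x⁻¹ ∈ N := by
    intro u hu x hx
    have h := hcomm (f x) ⟨x, hx, rfl⟩ (f u) (hQ ▸ ⟨u, hu, rfl⟩)
    rw [← QuotientGroup.eq_one_iff]
    show f (u * x * u⁻¹ * x⁻¹) = 1
    simp only [map_mul, map_inv]
    rw [← h]; group
  have hQnorm : (Q : Subgroup G) ≤ Subgroup.normalizer ((P : Subgroup G) : Set G) := by
    intro u hu
    refine Coprime.mem_normalizer_of_forall fun x hx => ?_
    have h1 := (P : Subgroup G).mul_mem (hNP (hQcomm u hu x hx)) hx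
    simpa [mul_assoc] using h1
  -- the fixed group normalizes `Qb`
  haveI := Fintype.ofFinite A
  let φA : (Pb : Subgroup (G ⧸ N)) →* MulAut A :=
    MulAut.conjNormal.comp (Pb : Subgroup (G ⧸ N)).subtype
  set S : Sylow q A := Qb.subtype hQbA with hSdef
  have hS : (S : Subgroup A) ≤ fixedSub φA := by
    intro z hz s
    refine Subtype.ext ?_
    show ((MulAut.conjNormal (s : G ⧸ N) z : A) : G ⧸ N) = z
    rw [MulAut.conjNormal_apply, hcomm (s : G ⧸ N) s.2 (z : G ⧸ N) hz, mul_inv_cancel_right]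
  have hdeg : ∀ θ : IrrCharacter A, IsFixed φA (θ : A → ℂ) → ¬ q ∣ charDegree (θ : A → ℂ) := by
    intro θ hθ hd
    obtain ⟨ψ, hψp, hψd⟩ := exists_over_fixed A Cores.not_dvd_card_pPrimeCore Pb θ hθ
    let χ : IrrCharacter G := ⟨fun g => (ψ : G ⧸ N → ℂ) (f g),
      IsIrrCharacter.comp_surjective ψ.2 f hfs⟩
    have he : charDegree (χ : G → ℂ) = charDegree (ψ : G ⧸ N → ℂ) := by
      show charDegree (fun g : G => (ψ : G ⧸ N → ℂ) (f g)) = _
      simp only [charDegree, map_one]
    have hmem : χ ∈ principalBlock M G := (mem_principal_iff_of_separable hM hsep χ).mpr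
      fun a ha => by rw [hA, Subgroup.mem_bot] at ha; rw [ha]
    exact hcross χ hmem (he ▸ hψp) (he ▸ hd.trans hψd)
  have hfix : ∀ c ∈ fixedSub φA, ∀ x ∈ (S : Subgroup A), c * x * c⁻¹ ∈ (S : Subgroup A) :=
    fun c hc x hx => fixed_le_normalizer φA Pb.2 Cores.not_dvd_card_pPrimeCore
      ((hsepq.quotient N).subgroup A) S hS hdeg hc hx
  -- every linear character of `P` is fixed by `Q`
  haveI := Fintype.ofFinite N
  haveI := Fintype.ofFinite (P : Subgroup G)
  have hlin : ∀ (l : (P : Subgroup G) →* ℂ) (u : G) (hu : u ∈ (Q : Subgroup G)) (x : (P : Subgroup G)),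
      l ⟨u * x * u⁻¹, (Subgroup.mem_normalizer_iff.mp (hQnorm hu) x).mp x.2⟩ = l x := by
    intro l u hu x
    let μ : N →* ℂ := l.comp (Subgroup.inclusion hNP)
    have hμ : IsIrrCharacter N μ := isIrrCharacter_of_hom μ
    haveI := Fintype.ofFinite (IrrCharacter G)
    obtain ⟨m, hm, hmn⟩ := IsCharacter.decompose
      (IsCharacter.indFun (P : Subgroup G) (isCharacter_of_hom l))
    choose d hd0 hd using fun χ : IrrCharacter G => IsIrrCharacter.exists_degree χ.2
    obtain ⟨χ, hχ⟩ : ∃ χ, ¬ p ∣ m χ * d χ := by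
      by_contra hh
      push Not at hh
      have h1 := congrFun hm 1
      rw [indFun_one_apply, map_one, mul_one] at h1
      simp only [Finset.sum_apply, Pi.smul_apply, smul_eq_mul, hd] at h1
      have h2 : (P : Subgroup G).index = ∑ χ, m χ * d χ := by exact_mod_cast h1
      exact P.not_dvd_index (h2 ▸ Finset.dvd_sum fun χ _ => hh χ)
    have hdc : charDegree (χ : G → ℂ) = d χ := by simp [charDegree, hd]
    have hmem : χ ∈ principalBlock M G := (mem_principal_iff_of_separable hM hsep χ).mpr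
      fun a ha => by rw [hA, Subgroup.mem_bot] at ha; rw [ha]
    have hqd := hcross χ hmem (hdc ▸ fun h => hχ (dvd_mul_of_dvd_right h _))
    have h1 : classInner (fun y : (P : Subgroup G) => (χ : G → ℂ) y) (⇑l) ≠ 0 := by
      rw [CharApp.classInner_comm_of_nat (m := m χ) (by
        rw [← frobenius_reciprocity (P : Subgroup G) _ (IsIrrCharacter.isClassFunction χ.2)]
        exact hmn χ)]
      exact_mod_cast fun h0 : m χ = 0 => hχ (by rw [h0, zero_mul]; exact dvd_zero p)
    have hover : classInner (fun n : N => (χ : G → ℂ) n) (⇑μ) ≠ 0 :=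
      CharApp.over_trans (Subgroup.inclusion hNP)
        (IsCharacter.restrict (IsIrrCharacter.isCharacter χ.2) (P : Subgroup G))
        (isIrrCharacter_of_hom l) hμ h1 (by
          show classInner (⇑μ) (⇑μ) ≠ 0
          rw [classInner_irr_self hμ]; exact one_ne_zero)
    set T := CharApp.inertia N (⇑μ) with hTdef
    have hNT : N ≤ T := CharApp.le_inertia N (IsIrrCharacter.isClassFunction hμ)
    have hPT : (P : Subgroup G) ≤ T := by
      intro s hs
      rw [hTdef, CharApp.mem_inertia_iff]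
      intro n
      exact IsIrrCharacter.isClassFunction (isIrrCharacter_of_hom l) (Subgroup.inclusion hNP n) ⟨s, hs⟩
    have hTi : ¬ q ∣ T.index := by
      intro h
      refine hqd ?_
      obtain ⟨a, ha⟩ := IsCharacter.classInner_nat
        (IsCharacter.restrict (IsIrrCharacter.isCharacter χ.2) N) (isCharacter_of_hom μ)
      have h2 := CharApp.restrict_degree N χ.2 hμ hover
      rw [ha, hd χ, map_one, mul_one] at h2
      have h3 : d χ = a * T.index := by exact_mod_cast h2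
      rw [hdc, h3]
      exact dvd_mul_of_dvd_right h _
    let T1 := (T.map f).subgroupOf A
    have hT1 : ∀ (s : (Pb : Subgroup (G ⧸ N))), ∀ t ∈ T1, φA s t ∈ T1 := by
      rintro ⟨_, s, hs, rfl⟩ t ⟨w, hw, hwt⟩
      refine ⟨s * w * s⁻¹, T.mul_mem (T.mul_mem (hPT hs) hw) (T.inv_mem (hPT hs)), ?_⟩
      show f (s * w * s⁻¹) = ((φA ⟨f s, _⟩ t : A) : G ⧸ N)
      rw [map_mul, map_mul, map_inv, hwt]
      exact (MulAut.conjNormal_apply _ _).symm
    have hT1i : ¬ q ∣ T1.index := by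
      intro h
      have h' : (T.map f).relIndex A ∣ (T.map f).index :=
        PReduced.relIndex_dvd_index_of_right_normal _ _
      rw [Subgroup.index_map_eq T hfs (by rw [hf, QuotientGroup.ker_mk']; exact hNT)] at h'
      exact hTi (h.trans h')
    obtain ⟨c, hc, hcT⟩ := exists_fixed_conj_le φA Pb.2 Cores.not_dvd_card_pPrimeCore S hS T1 hT1 hT1i
    have hQT : (Q : Subgroup G) ≤ T := by
      intro v hv
      have hvQ : f v ∈ (Qb : Subgroup (G ⧸ N)) := hQ ▸ ⟨v, hv, rfl⟩
      let z : A := ⟨f v, hQbA hvQ⟩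
      have hz : c⁻¹ * z * c⁻¹⁻¹ ∈ (S : Subgroup A) :=
        hfix c⁻¹ ((fixedSub φA).inv_mem hc) z hvQ
      have h2 := hcT _ hz
      rw [show c * (c⁻¹ * z * c⁻¹⁻¹) * c⁻¹ = z by group] at h2
      obtain ⟨w, hw, hwv⟩ := h2
      have h3 : w⁻¹ * v ∈ N := by
        rw [← QuotientGroup.eq_one_iff]
        show f (w⁻¹ * v) = 1
        rw [map_mul, map_inv, hwv]
        exact inv_mul_cancel _
      rw [show v = w * (w⁻¹ * v) by group]
      exact T.mul_mem hw (hNT h3)
    -- iterate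
    have hstep : ∀ j : ℕ, ∃ y : (P : Subgroup G), (y : G) = u ^ j * x * (u ^ j)⁻¹ ∧
        (y : G) * (x : G)⁻¹ ∈ N ∧
        l y = l x * (l ⟨u * x * u⁻¹, (Subgroup.mem_normalizer_iff.mp (hQnorm hu) x).mp x.2⟩
          * l x⁻¹) ^ j := by
      intro j
      induction j with
      | zero => exact ⟨x, by simp, by simp, by simp⟩
      | succ j ih =>
        obtain ⟨y, hy, hyN, hly⟩ := ih
        set y1 : (P : Subgroup G) :=
          ⟨u * x * u⁻¹, (Subgroup.mem_normalizer_iff.mp (hQnorm hu) x).mp x.2⟩ with hy1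
        let n : N := ⟨(y : G) * (x : G)⁻¹, hyN⟩
        have hn : μ ⟨u * n * u⁻¹, (inferInstance : N.Normal).conj_mem n n.2 u⟩ = μ n :=
          (CharApp.mem_inertia_iff N).mp (hQT hu) n
        refine ⟨Subgroup.inclusion hNP ⟨u * n * u⁻¹, (inferInstance : N.Normal).conj_mem n n.2 u⟩ * y1,
          ?_, ?_, ?_⟩
        · show u * ((y : G) * (x : G)⁻¹) * u⁻¹ * (u * x * u⁻¹) = _
          rw [hy, pow_succ']; group
        · show u * ((y : G) * (x : G)⁻¹) * u⁻¹ * (u * x * u⁻¹) * (x : G)⁻¹ ∈ N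
          rw [show u * ((y : G) * (x : G)⁻¹) * u⁻¹ * (u * x * u⁻¹) * (x : G)⁻¹ =
            (u * ((y : G) * (x : G)⁻¹) * u⁻¹) * (u * x * u⁻¹ * (x : G)⁻¹) by group]
          exact N.mul_mem ((inferInstance : N.Normal).conj_mem _ hyN u) (hQcomm u hu x x.2)
        · have e1 : l (Subgroup.inclusion hNP ⟨u * n * u⁻¹,
              (inferInstance : N.Normal).conj_mem n n.2 u⟩) = l y * l x⁻¹ := by
            rw [← map_mul]
            exact hn
          rw [map_mul, e1, hly, pow_succ]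
          ring
    obtain ⟨a, ha⟩ := IsPGroup.iff_card.mp Q.2
    obtain ⟨b, hb⟩ := IsPGroup.iff_card.mp P.2
    set y1 : (P : Subgroup G) :=
      ⟨u * x * u⁻¹, (Subgroup.mem_normalizer_iff.mp (hQnorm hu) x).mp x.2⟩ with hy1
    set δ := l y1 * l x⁻¹ with hδ
    have hx1 : l x⁻¹ * l x = 1 := by rw [← map_mul, inv_mul_cancel, map_one]
    have h4 : δ ^ q ^ a = 1 := by
      obtain ⟨y, hy, -, hly⟩ := hstep (q ^ a)
      have hua : u ^ q ^ a = 1 := congrArg Subtype.val
        (show (⟨u, hu⟩ : (Q : Subgroup G)) ^ q ^ a = 1 by rw [← ha, pow_card_eq_one'])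
      have hyx : y = x := Subtype.ext (by rw [hy, hua]; simp)
      rw [hyx] at hly
      calc δ ^ q ^ a = l x⁻¹ * (l x * δ ^ q ^ a) := by rw [← mul_assoc, hx1, one_mul]
        _ = 1 := by rw [← hly, hx1]
    have h5 : δ ^ p ^ b = 1 := by
      rw [hδ, ← map_mul, ← map_pow, ← hb, pow_card_eq_one', map_one]
    have h6 : δ = 1 := orderOf_eq_one_iff.mp (Nat.eq_one_of_dvd_coprimes
      (((Nat.coprime_primes hp.out hq.out).mpr hpq).pow b a)
      (orderOf_dvd_of_pow_eq_one h5) (orderOf_dvd_of_pow_eq_one h4))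
    calc l y1 = l y1 * (l x⁻¹ * l x) := by rw [hx1, mul_one]
      _ = δ * l x := by rw [hδ]; ring
      _ = l x := by rw [h6, one_mul]
  -- so `Q` centralizes `P`
  have hcent : (Q : Subgroup G) ≤ Subgroup.centralizer ((P : Subgroup G) : Set G) := by
    refine Coprime.le_centralizer_of_forall_mem_frattini hQnorm ?_ ?_
    · obtain ⟨a, ha⟩ := IsPGroup.iff_card.mp Q.2
      obtain ⟨b, hb⟩ := IsPGroup.iff_card.mp (P.2.to_subgroup (frattini (P : Subgroup G)))
      rw [ha, hb]
      exact ((Nat.coprime_primes hq.out hp.out).mpr (Ne.symm hpq)).pow a b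
    · intro u hu x hx
      refine commutator_le_map_frattini _ P.2 ?_
      rw [← Subgroup.map_subtype_commutator]
      set y1 : (P : Subgroup G) :=
        ⟨u * x * u⁻¹, (Subgroup.mem_normalizer_iff.mp (hQnorm hu) x).mp hx⟩ with hy1
      refine ⟨y1 * ⟨x, hx⟩⁻¹, ?_, rfl⟩
      by_contra hnot
      have hne : Abelianization.of (y1 * (⟨x, hx⟩ : (P : Subgroup G))⁻¹) ≠ 1 :=
        fun h => hnot ((QuotientGroup.eq_one_iff _).mp h)
      haveI : NeZero (Monoid.exponent (Abelianization (P : Subgroup G))) :=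
        ⟨Monoid.exponent_ne_zero_of_finite⟩
      haveI : NeZero ((Monoid.exponent (Abelianization (P : Subgroup G)) : ℕ) : ℂ) :=
        ⟨Nat.cast_ne_zero.2 (NeZero.ne _)⟩
      obtain ⟨g, hg⟩ :=
        CommGroup.exists_apply_ne_one_of_hasEnoughRootsOfUnity (Abelianization (P : Subgroup G)) ℂ hne
      have h1 := hlin ((Units.coeHom ℂ).comp (g.comp Abelianization.of)) u hu ⟨x, hx⟩
      refine hg (Units.ext ?_)
      change ((g (Abelianization.of y1) : ℂˣ) : ℂ) = (g (Abelianization.of (⟨x, hx⟩ : (P : Subgroup G))) : ℂˣ) at h1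
      rw [map_mul, map_mul, map_inv, map_inv, Units.val_mul, h1, ← Units.val_mul, mul_inv_cancel]
  have hQ1 : (Q : Subgroup G) = ⊥ := by
    have h1 : (Q : Subgroup G) ≤ N :=
      hcent.trans ((Subgroup.centralizer_le (by exact_mod_cast hNP)).trans hC)
    obtain ⟨a, ha⟩ := IsPGroup.iff_card.mp Q.2
    obtain ⟨b, hb⟩ := IsPGroup.iff_card.mp hNp
    refine le_bot_iff.mp fun u hu => Subgroup.mem_bot.mpr (Coprime.eq_one_of_mem_of_mem ?_ hu (h1 hu))
    rw [ha, hb]
    exact ((Nat.coprime_primes hq.out hp.out).mpr (Ne.symm hpq)).pow a b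
  exact Q.ne_bot_of_dvd_card hdvd hQ1

theorem cross_core_aux (n : ℕ) : ∀ (G : Type u) [Group G] [Finite G], Nat.card G ≤ n → p ≠ q →
    ∀ (Mp Mq : Ideal AlgInt), IsPModular p Mp → IsPModular q Mq →
    Solvable.IsPiSeparable {p} G → Solvable.IsPiSeparable {q} G → Cross p q Mp G → Cross q p Mq G →
    ¬ q ∣ (pPrimeCore p G).index ∧ ¬ p ∣ (pPrimeCore q G).index := by
  induction n with
  | zero => intro G _ _ hn; exact absurd hn (Nat.card_pos (α := G)).not_ge
  | succ n ih =>
    intro G _ _ hn hpq Mp Mq hMp hMq hps hqs h1 h2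
    have IH : ∀ (N : Subgroup G) [N.Normal], N ≠ ⊥ →
        ¬ q ∣ (pPrimeCore p (G ⧸ N)).index ∧ ¬ p ∣ (pPrimeCore q (G ⧸ N)).index := by
      intro N _ hN
      refine ih (G ⧸ N) ?_ hpq Mp Mq hMp hMq (hps.quotient N) (hqs.quotient N)
        (cross_quotient hMp N h1) (cross_quotient hMq N h2)
      have : Nat.card (G ⧸ N) < Nat.card G := by
        rw [← Subgroup.index_eq_card, ← N.card_mul_index]
        exact lt_mul_of_one_lt_left (Nat.pos_of_ne_zero Subgroup.index_ne_zero_of_finite)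
          (N.one_lt_card_iff_ne_bot.mpr hN)
      omega
    exact ⟨cross_core_half hpq hMp hps hqs h1 IH,
      cross_core_half (Ne.symm hpq) hMq hqs hps h2 fun N _ hN => (IH N hN).symm⟩

theorem cross_core {G : Type u} [Group G] [Finite G] (hpq : p ≠ q) {Mp Mq : Ideal AlgInt}
    (hMp : IsPModular p Mp) (hMq : IsPModular q Mq) (hps : Solvable.IsPiSeparable {p} G)
    (hqs : Solvable.IsPiSeparable {q} G) (h1 : Cross p q Mp G) (h2 : Cross q p Mq G) :
    ¬ q ∣ (pPrimeCore p G).index ∧ ¬ p ∣ (pPrimeCore q G).index :=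
  cross_core_aux _ G le_rfl hpq Mp Mq hMp hMq hps hqs h1 h2

/-- Commuting Sylow subgroups force the Sylow `q`-subgroup into `O_{p'}(G)`. -/
theorem cross_of_commuting {G : Type*} [Group G] [Finite G] (hpq : p ≠ q) {M : Ideal AlgInt}
    (hM : IsPModular p M) (hps : Solvable.IsPiSeparable {p} G) (P : Sylow p G) (Q : Sylow q G)
    (h : ∀ x ∈ (P : Subgroup G), ∀ y ∈ (Q : Subgroup G), x * y = y * x) : Cross p q M G := by
  classical
  intro χ hχ _ hqd
  set f := QuotientGroup.mk' (pPrimeCore p G) with hf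
  have hfs : Function.Surjective f := QuotientGroup.mk'_surjective _
  have hC := Solvable.centralizer_pCore_le (hps.quotient (pPrimeCore p G))
    (Cores.pPrimeCore_quotient_self p)
  have hQ : (Q : Subgroup G) ≤ pPrimeCore p G := by
    intro y hy
    have h1 : f y ∈ pCore p (G ⧸ pPrimeCore p G) := hC (Subgroup.mem_centralizer_iff.mpr fun z hz => by
      obtain ⟨x, hx, rfl⟩ : z ∈ ((P.mapSurjective hfs : Sylow p _) : Subgroup (G ⧸ pPrimeCore p G)) :=
        PReduced.pCore_le_sylow _ hz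
      rw [← map_mul, ← map_mul, h x hx y hy])
    obtain ⟨a, ha⟩ := IsPGroup.iff_card.mp (Q.2.map f)
    obtain ⟨b, hb⟩ := IsPGroup.iff_card.mp (Cores.isPGroup_pCore p (G ⧸ pPrimeCore p G))
    refine (QuotientGroup.eq_one_iff y).mp
      (Coprime.eq_one_of_mem_of_mem (A := (Q : Subgroup G).map f) ?_ ⟨y, hy, rfl⟩ h1)
    rw [ha, hb]
    exact ((Nat.coprime_primes hq.out hp.out).mpr (Ne.symm hpq)).pow a b
  have hidx : ¬ q ∣ (pPrimeCore p G).index :=
    fun hd => Q.not_dvd_index (hd.trans (Subgroup.index_dvd_of_le hQ))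
  obtain ⟨ψ, hψ⟩ := CentralChar.exists_deflation _ χ
    ((mem_principal_iff_of_separable hM hps χ).mp hχ)
  haveI := Fintype.ofFinite (G ⧸ pPrimeCore p G)
  have he : charDegree (χ : G → ℂ) = charDegree (ψ : G ⧸ pPrimeCore p G → ℂ) := by
    simp only [charDegree, hψ, QuotientGroup.mk_one]
  rw [he] at hqd
  exact hidx (by rw [Subgroup.index_eq_card]; exact hqd.trans (Blocks.charDegree_dvd_card ψ))

end Cfsg.Agent.PSolvableBlock
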